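import Groth.Agent.Lib.SymGr.Regular
import Groth.Agent.Lib.SepField.Smooth
import Mathlib.RingTheory.Smooth.Basic
import Mathlib.RingTheory.MvPolynomial.Ideal

/-! A Noetherian local ring which is a union of formally smooth algebras over a perfect field is regular. -/

set_option autoImplicit false

universe u

open MvPolynomial IsLocalRing

namespace GrothLib.ColimRegular

/-- Membership in a power of an ideal is witnessed by finitely many elements. -/
theorem exists_finset_of_mem_pow {A : Type u} [CommRing A] (I : Ideal A) : ∀ (k : ℕ) {z : A}, z ∈ I ^ k →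
    ∃ s : Finset A, ∀ (G : Type u) [CommRing G] (φ : G →+* A), (↑s : Set A) ⊆ Set.range φ →
      ∃ g ∈ (I.comap φ) ^ k, φ g = z
  | 0, z, _ => ⟨{z}, fun G _ φ h => by
      obtain ⟨g, hg⟩ := h (Finset.mem_singleton_self z)
      exact ⟨g, by simp, hg⟩⟩
  | k + 1, z, hz => by
    classical
    rw [pow_succ] at hz
    induction hz using Submodule.mul_induction_on' with
    | mem_mul_mem a ha b hb =>
      obtain ⟨s, hs⟩ := exists_finset_of_mem_pow I k ha
      refine ⟨insert b s, fun G _ φ h => ?_⟩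
      obtain ⟨g, hg, hga⟩ := hs G φ fun x hx => h (Finset.mem_insert_of_mem hx)
      obtain ⟨g', hg'⟩ := h (Finset.mem_insert_self b s)
      exact ⟨g * g', by rw [pow_succ]; exact Ideal.mul_mem_mul hg (Ideal.mem_comap.2 (hg'.symm ▸ hb)),
        by rw [map_mul, hga, hg']⟩
    | add a _ b _ ha hb =>
      obtain ⟨s, hs⟩ := ha
      obtain ⟨t, ht⟩ := hb
      refine ⟨s ∪ t, fun G _ φ h => ?_⟩
      obtain ⟨g, hg, hga⟩ := hs G φ fun x hx => h (Finset.mem_union_left _ hx)
      obtain ⟨g', hg', hgb⟩ := ht G φ fun x hx => h (Finset.mem_union_right _ hx)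
      exact ⟨g + g', add_mem hg hg', by rw [map_add, hga, hgb]⟩

variable {K : Type u} [CommRing K] {d : ℕ}

/-- Products of congruent elements are congruent, with the degree. -/
theorem prod_congr_pow {σ : Type*} [Fintype σ] (V : Ideal (MvPolynomial (Fin d) K))
    (a b : σ → MvPolynomial (Fin d) K) (hb : ∀ i, b i ∈ V) (hab : ∀ i, a i - b i ∈ V ^ 2) (e : σ → ℕ) :
    ∏ i, a i ^ e i - ∏ i, b i ^ e i ∈ V ^ (∑ i, e i + 1) := by
  classical
  have ha : ∀ i, a i ∈ V := fun i => by
    have := V.add_mem (Ideal.pow_le_self two_ne_zero (hab i)) (hb i)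
    simpa using this
  have hpow : ∀ i k, a i ^ k - b i ^ k ∈ V ^ (k + 1) := fun i k => by
    induction k with
    | zero => simp
    | succ k ih =>
      rw [show a i ^ (k + 1) - b i ^ (k + 1) = (a i ^ k - b i ^ k) * a i + b i ^ k * (a i - b i) by ring]
      refine add_mem ?_ ?_
      · rw [pow_succ V (k + 1)]
        exact Ideal.mul_mem_mul ih (ha i)
      · rw [show k + 1 + 1 = k + 2 from rfl, pow_add]
        exact Ideal.mul_mem_mul (Ideal.pow_mem_pow (hb i) k) (hab i)
  induction (Finset.univ : Finset σ) using Finset.induction with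
  | empty => simp
  | insert i s his ih =>
    rw [Finset.prod_insert his, Finset.prod_insert his, Finset.sum_insert his,
      show a i ^ e i * ∏ j ∈ s, a j ^ e j - b i ^ e i * ∏ j ∈ s, b j ^ e j =
        (a i ^ e i - b i ^ e i) * ∏ j ∈ s, a j ^ e j + b i ^ e i * (∏ j ∈ s, a j ^ e j - ∏ j ∈ s, b j ^ e j) by ring]
    refine add_mem ?_ ?_
    · rw [show e i + ∑ j ∈ s, e j + 1 = (e i + 1) + ∑ j ∈ s, e j by omega, pow_add]
      refine Ideal.mul_mem_mul (hpow i _) ?_
      rw [← Finset.prod_pow_eq_pow_sum]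
      exact Ideal.prod_mem_prod fun j _ => Ideal.pow_mem_pow (ha j) _
    · rw [add_assoc (e i), pow_add]
      exact Ideal.mul_mem_mul (Ideal.pow_mem_pow (hb i) _) ih

/-- Substitution by values congruent to the variables does not change a form modulo higher order. -/
theorem map_congr_of_isHomogeneous {R : Type u} [CommRing R] (r : R →+* K) {n : ℕ}
    {P : MvPolynomial (Fin d) R} (hP : P.IsHomogeneous n)
    (c : (Fin d →₀ ℕ) → MvPolynomial (Fin d) K) (hc : ∀ m, c m - C (r (P.coeff m)) ∈ idealOfVars (Fin d) K)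
    (a : Fin d → MvPolynomial (Fin d) K) (ha : ∀ i, a i - X i ∈ idealOfVars (Fin d) K ^ 2) :
    ∑ m ∈ P.support, c m * ∏ i, a i ^ m i - P.map r ∈ idealOfVars (Fin d) K ^ (n + 1) := by
  classical
  set V := idealOfVars (Fin d) K
  have hX : ∀ i, (X i : MvPolynomial (Fin d) K) ∈ V := fun i => Ideal.subset_span ⟨i, rfl⟩
  have hmap : P.map r = ∑ m ∈ P.support, C (r (P.coeff m)) * ∏ i, X i ^ m i := by
    conv_lhs => rw [P.as_sum, map_sum]
    refine Finset.sum_congr rfl fun m _ => ?_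
    rw [map_monomial, monomial_eq, Finsupp.prod_fintype _ _ fun i => pow_zero _]
  rw [hmap, ← Finset.sum_sub_distrib]
  refine Ideal.sum_mem _ fun m hm => ?_
  have hdeg : ∑ i, m i = n := by
    have := hP (mem_support_iff.1 hm)
    rw [← this, Finsupp.weight_apply, Finsupp.sum_fintype _ _ fun i => by simp]
    simp
  have ha' : ∀ i, a i ∈ V := fun i => by
    simpa using V.add_mem (Ideal.pow_le_self two_ne_zero (ha i)) (hX i)
  rw [show c m * ∏ i, a i ^ m i - C (r (P.coeff m)) * ∏ i, X i ^ m i =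
      (c m - C (r (P.coeff m))) * ∏ i, a i ^ m i + C (r (P.coeff m)) * (∏ i, a i ^ m i - ∏ i, X i ^ m i) by ring]
  refine add_mem ?_ (Ideal.mul_mem_left _ _ (hdeg ▸ prod_congr_pow V a X hX ha fun i => m i))
  rw [add_comm n 1, pow_add, pow_one]
  refine Ideal.mul_mem_mul (hc m) ?_
  rw [← hdeg, ← Finset.prod_pow_eq_pow_sum]
  exact Ideal.prod_mem_prod fun j _ => Ideal.pow_mem_pow (ha' j) _

theorem pow_map_mk_pow {R : Type u} [CommRing R] (J : Ideal R) (k : ℕ) :
    (J.map (Ideal.Quotient.mk (J ^ k))) ^ k = ⊥ := by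
  rw [← Ideal.map_pow, Ideal.map_quotient_self]

theorem mem_idealOfVars_iff {R : Type u} [CommRing R] {f : MvPolynomial (Fin d) R} :
    f ∈ idealOfVars (Fin d) R ↔ constantCoeff f = 0 := by
  rw [← pow_one (idealOfVars (Fin d) R), mem_pow_idealOfVars_iff']
  refine ⟨fun h => h 0 (by simp), fun h z hz => ?_⟩
  rw [(Finsupp.degree_eq_zero_iff z).1 (Nat.lt_one_iff.1 hz)]
  exact h

theorem sub_linear_mem_sq {R : Type u} [CommRing R] (f : MvPolynomial (Fin d) R) (hf : constantCoeff f = 0) :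
    f - ∑ i, C (f.coeff (Finsupp.single i 1)) * X i ∈ idealOfVars (Fin d) R ^ 2 := by
  classical
  rw [mem_pow_idealOfVars_iff']
  intro z hz
  rw [coeff_sub, coeff_sum]
  simp only [coeff_C_mul, coeff_X']
  rcases (Nat.lt_succ_iff.1 hz).eq_or_lt with h1 | h1
  · obtain ⟨i, rfl⟩ : ∃ i, Finsupp.single i 1 = z :=
      (Finsupp.range_single_one ▸ (h1 : z ∈ {d : _ →₀ ℕ | d.degree = 1}) : z ∈ Set.range _)
    rw [Finset.sum_eq_single i (fun j _ hj => by
      rw [if_neg (fun h => hj (Finsupp.single_left_injective one_ne_zero h)), mul_zero]) (by simp),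
      if_pos rfl, mul_one, sub_self]
  · have hz0 : z = 0 := (Finsupp.degree_eq_zero_iff z).1 (Nat.lt_one_iff.1 h1)
    subst hz0
    rw [Finset.sum_eq_zero fun j _ => by
      rw [if_neg (Finsupp.single_ne_zero.2 one_ne_zero), mul_zero], sub_zero]
    exact hf

/-- `A/m²` is a truncated polynomial ring over a coefficient field. -/
theorem exists_presentation {F A : Type u} [Field F] [CommRing A] [Algebra F A] (m : Ideal A) [m.IsMaximal]
    [Algebra.FormallySmooth F (A ⧸ m)] (x : Fin d → m)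
    (hspan : Ideal.span (Set.range fun i => (x i : A)) = m)
    (hli : LinearIndependent (A ⧸ m) fun i => m.toCotangent (x i)) :
    ∃ π : MvPolynomial (Fin d) (A ⧸ m) →ₐ[F] A ⧸ m ^ 2,
      Function.Surjective π ∧ (∀ f, π f = 0 ↔ f ∈ idealOfVars (Fin d) (A ⧸ m) ^ 2) ∧
      (∀ i, π (X i) = Ideal.Quotient.mk _ (x i : A)) ∧
      ∀ f, Ideal.Quotient.factorₐ F (Ideal.pow_le_self (I := m) two_ne_zero) (π f) = constantCoeff f := by
  classical
  let fac : A ⧸ m ^ 2 →ₐ[F] A ⧸ m := Ideal.Quotient.factorₐ F (Ideal.pow_le_self (I := m) two_ne_zero)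
  have hfac : Function.Surjective fac := Ideal.Quotient.factor_surjective (Ideal.pow_le_self two_ne_zero)
  have hkfac : ∀ t, fac t = 0 → t ∈ m.map (Ideal.Quotient.mk (m ^ 2)) := fun t ht => by
    obtain ⟨a, rfl⟩ := Ideal.Quotient.mk_surjective t
    exact Ideal.mem_map_of_mem _ (Ideal.Quotient.eq_zero_iff_mem.1 ht)
  have hnil : IsNilpotent (RingHom.ker (fac : A ⧸ m ^ 2 →+* A ⧸ m)) := ⟨2, le_bot_iff.1
    ((Ideal.pow_right_mono (fun t ht => hkfac t ht) 2).trans (pow_map_mk_pow m 2).le)⟩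
  have hprod : ∀ u v, u ∈ m.map (Ideal.Quotient.mk (m ^ 2)) → v ∈ m.map (Ideal.Quotient.mk (m ^ 2)) →
      u * v = 0 := fun u v hu hv =>
    (Submodule.mem_bot _).1 ((pow_map_mk_pow m 2).le (pow_two (m.map (Ideal.Quotient.mk (m ^ 2))) ▸ Ideal.mul_mem_mul hu hv))
  obtain ⟨s, hs⟩ : ∃ s : A ⧸ m →ₐ[F] A ⧸ m ^ 2, ∀ c, fac (s c) = c :=
    ⟨Algebra.FormallySmooth.liftOfSurjective (AlgHom.id F _) fac hfac hnil,
      fun c => Algebra.FormallySmooth.liftOfSurjective_apply _ _ _ _ c⟩
  let π : MvPolynomial (Fin d) (A ⧸ m) →ₐ[F] A ⧸ m ^ 2 :=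
    { eval₂Hom s.toRingHom fun i => Ideal.Quotient.mk _ (x i : A) with
      commutes' := fun c => by
        change eval₂ s.toRingHom _ (algebraMap F (MvPolynomial (Fin d) (A ⧸ m)) c) = _
        rw [IsScalarTower.algebraMap_apply F (A ⧸ m), algebraMap_eq, eval₂_C]
        exact s.commutes c }
  have hπC : ∀ c, π (C c) = s c := fun c => eval₂_C _ _ c
  have hπX : ∀ i, π (X i) = Ideal.Quotient.mk _ (x i : A) := fun i => eval₂_X _ _ i
  have hπV2 : ∀ f ∈ idealOfVars (Fin d) (A ⧸ m) ^ 2, π f = 0 := fun f hf => by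
    have h1 : (idealOfVars (Fin d) (A ⧸ m)).map π.toRingHom ≤ m.map (Ideal.Quotient.mk (m ^ 2)) := by
      rw [Ideal.map_span, Ideal.span_le]
      rintro _ ⟨_, ⟨i, rfl⟩, rfl⟩
      exact (hπX i).symm ▸ Ideal.mem_map_of_mem _ (x i).2
    have h2 : π f ∈ (idealOfVars (Fin d) (A ⧸ m) ^ 2).map π.toRingHom := Ideal.mem_map_of_mem _ hf
    rw [Ideal.map_pow] at h2
    exact (Submodule.mem_bot _).1 ((pow_map_mk_pow m 2).le (Ideal.pow_right_mono h1 2 h2))
  have hfacπ : ∀ f, fac (π f) = constantCoeff f := fun f => by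
    induction f using MvPolynomial.induction_on with
    | C a => rw [hπC, hs, constantCoeff_C]
    | add f g hf hg => simp only [map_add, hf, hg]
    | mul_X f i hf =>
      rw [map_mul, map_mul, hπX, map_mul, constantCoeff_X, mul_zero]
      exact mul_eq_zero_of_right _ (Ideal.Quotient.eq_zero_iff_mem.2 (x i).2)
  refine ⟨π, fun t => ?_, fun f => ⟨fun hf => ?_, hπV2 f⟩, hπX, hfacπ⟩
  · have h0 : fac (t - s (fac t)) = 0 := by rw [map_sub, hs, sub_self]
    obtain ⟨a, ha, hat⟩ := (Ideal.mem_map_iff_of_surjective _ Ideal.Quotient.mk_surjective).1 (hkfac _ h0)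
    rw [← hspan, Ideal.mem_span_range_iff_exists_fun] at ha
    obtain ⟨c, rfl⟩ := ha
    refine ⟨C (fac t) + ∑ i, C (Ideal.Quotient.mk m (c i)) * X i, ?_⟩
    rw [map_add, hπC, map_sum]
    simp only [map_mul, hπC, hπX]
    rw [add_comm, ← eq_sub_iff_add_eq, ← hat, map_sum]
    refine Finset.sum_congr rfl fun i _ => ?_
    rw [map_mul, ← sub_eq_zero, ← sub_mul]
    refine hprod _ _ (hkfac _ ?_) (Ideal.mem_map_of_mem _ (x i).2)
    rw [map_sub, hs]
    exact sub_self _
  · have h0 : constantCoeff f = 0 := by rw [← hfacπ, hf, map_zero]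
    have h1 := hπV2 _ (sub_linear_mem_sq f h0)
    rw [map_sub, hf, zero_sub, neg_eq_zero, map_sum] at h1
    simp only [map_mul, hπC, hπX] at h1
    choose a ha using fun i => Ideal.Quotient.mk_surjective (s (f.coeff (Finsupp.single i 1)))
    simp only [← ha] at h1
    have h2 : ∑ i, Ideal.Quotient.mk m (a i) • m.toCotangent (x i) = 0 := by
      have h3 : m.toCotangent (∑ i, a i • x i) = 0 := (Ideal.toCotangent_eq_zero m _).2 (by
        rw [← Ideal.Quotient.eq_zero_iff_mem]
        simpa using h1)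
      rw [map_sum] at h3
      refine Eq.trans (Finset.sum_congr rfl fun i _ => ?_) h3
      rw [map_smul]
      exact algebraMap_smul (A ⧸ m) (a i) _
    have h4 := Fintype.linearIndependent_iff.1 hli _ h2
    have h5 : f - ∑ i, C (f.coeff (Finsupp.single i 1)) * X i = f := by
      refine sub_eq_self.2 (Finset.sum_eq_zero fun i _ => ?_)
      have h6 := hs (f.coeff (Finsupp.single i 1))
      rw [← ha i] at h6
      change Ideal.Quotient.mk m (a i) = _ at h6
      rw [← h6, h4 i, map_zero, zero_mul]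
    exact h5 ▸ sub_linear_mem_sq f h0

/-- The heart of the criterion. -/
theorem map_mem_pow {F A G T : Type u} [Field F] [CommRing A] [Algebra F A] [CommRing G] [Algebra F G]
    [Algebra F K] [CommRing T] [Algebra F T]
    [Algebra.FormallySmooth F G] (φ : G →ₐ[F] A) (r : A →ₐ[F] K) (p : A →ₐ[F] T) (fac : T →ₐ[F] K)
    (hfp : ∀ a, fac (p a) = r a) (x : Fin d → A)
    (π : MvPolynomial (Fin d) K →ₐ[F] T) (hsurj : Function.Surjective π)
    (hker : ∀ f, π f = 0 ↔ f ∈ idealOfVars (Fin d) K ^ 2)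
    (hX : ∀ i, π (X i) = p (x i))
    (hfac : ∀ f, fac (π f) = constantCoeff f)
    {n : ℕ} (hn : 0 < n) {P : MvPolynomial (Fin d) A} (hP : P.IsHomogeneous n)
    (gc : (Fin d →₀ ℕ) → G) (hgc : ∀ q ∈ P.support, φ (gc q) = P.coeff q)
    (gx : Fin d → G) (hgx : ∀ i, φ (gx i) = x i) (g : G) (hg : g ∈ ((RingHom.ker r.toRingHom).comap φ.toRingHom) ^ (n + 1))
    (heq : ∑ q ∈ P.support, gc q * ∏ i, gx i ^ q i = g) :
    P.map r.toRingHom ∈ idealOfVars (Fin d) K ^ (n + 1) := by
  classical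
  let πS : MvPolynomial (Fin d) K ⧸ idealOfVars (Fin d) K ^ (n + 1) →ₐ[F] T :=
    Ideal.Quotient.liftₐ _ π fun f hf => (hker f).2 (Ideal.pow_le_pow_right (by omega) hf)
  have hπS : ∀ f, πS (Ideal.Quotient.mk _ f) = π f := fun f => rfl
  have hπSsurj : Function.Surjective πS := fun t => by
    obtain ⟨f, hf⟩ := hsurj t
    exact ⟨Ideal.Quotient.mk _ f, hf⟩
  have hnil : IsNilpotent (RingHom.ker (πS : (MvPolynomial (Fin d) K ⧸ idealOfVars (Fin d) K ^ (n + 1)) →+* T)) := by
    refine ⟨n + 1, le_bot_iff.1 ((Ideal.pow_right_mono (fun z hz => ?_) _).trans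
      (pow_map_mk_pow (idealOfVars (Fin d) K) (n + 1)).le)⟩
    obtain ⟨f, rfl⟩ := Ideal.Quotient.mk_surjective z
    exact Ideal.mem_map_of_mem _ (Ideal.pow_le_self two_ne_zero ((hker f).1 hz))
  obtain ⟨l, hl⟩ : ∃ l : G →ₐ[F] MvPolynomial (Fin d) K ⧸ idealOfVars (Fin d) K ^ (n + 1),
      ∀ z, πS (l z) = p (φ z) :=
    ⟨Algebra.FormallySmooth.liftOfSurjective (p.comp φ) πS hπSsurj hnil,
      fun z => Algebra.FormallySmooth.liftOfSurjective_apply _ _ _ _ z⟩
  choose L hL using fun z => Ideal.Quotient.mk_surjective (l z)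
  have hLπ : ∀ z, π (L z) = p (φ z) := fun z => by rw [← hπS, hL, hl]
  have hLcc : ∀ z, constantCoeff (L z) = r (φ z) := fun z => by
    rw [← hfac, hLπ, hfp]
  have hLx : ∀ q, L (gx q) - X q ∈ idealOfVars (Fin d) K ^ 2 := fun q => (hker _).1 (by
    rw [map_sub, hLπ, hgx, hX, sub_self])
  have hgV : l g = 0 := by
    have h1 : (((RingHom.ker r.toRingHom).comap φ.toRingHom) ^ (n + 1)).map l.toRingHom ≤
        ((idealOfVars (Fin d) K).map
          (Ideal.Quotient.mk (idealOfVars (Fin d) K ^ (n + 1)))) ^ (n + 1) := by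
      rw [Ideal.map_pow]
      refine Ideal.pow_right_mono (Ideal.map_le_iff_le_comap.2 fun z hz => ?_) _
      change l z ∈ (idealOfVars (Fin d) K).map (Ideal.Quotient.mk (idealOfVars (Fin d) K ^ (n + 1)))
      rw [← hL]
      refine Ideal.mem_map_of_mem _ (mem_idealOfVars_iff.2 ?_)
      rw [hLcc]
      exact hz
    exact (Submodule.mem_bot _).1 ((pow_map_mk_pow _ _).le (h1 (Ideal.mem_map_of_mem _ hg)))
  let c' : (Fin d →₀ ℕ) → MvPolynomial (Fin d) K :=
    fun q => if q ∈ P.support then L (gc q) else C (r.toRingHom (P.coeff q))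
  have h := map_congr_of_isHomogeneous r.toRingHom hP c' (fun q => by
    simp only [c']
    split_ifs with hq
    · refine mem_idealOfVars_iff.2 ?_
      rw [map_sub, constantCoeff_C, hLcc, hgc q hq]
      exact sub_self _
    · simp) (fun i => L (gx i)) hLx
  have e : ∑ q ∈ P.support, c' q * ∏ i, L (gx i) ^ q i = ∑ q ∈ P.support, L (gc q) * ∏ i, L (gx i) ^ q i :=
    Finset.sum_congr rfl fun q hq => by simp only [c', if_pos hq]
  rw [e] at h
  have hsum : ∑ q ∈ P.support, L (gc q) * ∏ i, L (gx i) ^ q i ∈ idealOfVars (Fin d) K ^ (n + 1) := by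
    rw [← Ideal.Quotient.eq_zero_iff_mem, map_sum]
    simp only [map_mul, map_prod, map_pow, hL]
    rw [← hgV, ← heq, map_sum]
    simp only [map_mul, map_prod, map_pow]
  simpa using Ideal.sub_mem _ hsum h

/-- The criterion. -/
theorem isRegularLocalRing_of_union {F A : Type u} [Field F] [PerfectField F] [CommRing A] [IsLocalRing A]
    [IsNoetherianRing A] [Algebra F A] {ι : Type u} (G : ι → Type u) [∀ i, CommRing (G i)]
    [∀ i, Algebra F (G i)] [∀ i, Algebra.FormallySmooth F (G i)] (φ : ∀ i, G i →ₐ[F] A)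
    (hcov : ∀ s : Finset A, ∃ i, (↑s : Set A) ⊆ Set.range (φ i))
    (hker : ∀ i (e : G i), φ i e = 0 → ∃ j, ∃ ψ : G i →+* G j, (∀ x, φ j (ψ x) = φ i x) ∧ ψ e = 0) :
    IsRegularLocalRing A := by
  classical
  rw [GrothLib.SymGr.isRegularLocalRing_iff_symGrBijective]
  let m := maximalIdeal A
  letI := Ideal.Quotient.field m
  let b : Module.Basis _ (A ⧸ m) m.Cotangent := Module.finBasis (ResidueField A) (CotangentSpace A)
  choose x hx using fun i => m.toCotangent_surjective (b i)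
  have hspan : Ideal.span (Set.range fun i => (x i : A)) = m := by
    rw [← GrothLib.RegLoc.sup_sq_iff_span_toCotangent]
    exact (congrArg (fun v => Submodule.span (A ⧸ m) (Set.range v)) (funext hx)).trans b.span_eq
  rw [GrothLib.SymGr.symGrBijective_iff m x hspan b fun i => (hx i).symm]
  intro n P hP hev
  rw [hspan] at hev ⊢
  intro dd
  rcases Nat.eq_zero_or_pos n with rfl | hn
  · have hP0 : P = C (P.coeff 0) :=
      totalDegree_eq_zero_iff_eq_C.1 (Nat.le_zero.1 hP.totalDegree_le)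
    rw [hP0, eval_C, pow_one] at hev
    rw [hP0, coeff_C]
    split_ifs
    · exact hev
    · exact m.zero_mem
  haveI : Algebra.FormallySmooth F (A ⧸ m) := GrothLib.SepField.formallySmooth_iff_isGeometricallyReduced.2
    GrothLib.SepField.isGeometricallyReduced_of_perfectField
  obtain ⟨π, hsurj, hk, hX, hfac⟩ := exists_presentation (F := F) m x hspan
    (by rw [funext hx]; exact b.linearIndependent)
  obtain ⟨sz, hsz⟩ := exists_finset_of_mem_pow m (n + 1) hev
  obtain ⟨i, hi⟩ := hcov (sz ∪ Finset.univ.image (fun l => (x l : A)) ∪ P.support.image P.coeff)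
  obtain ⟨g, hg, hgz⟩ := hsz (G i) (φ i).toRingHom fun y hy =>
    hi (Finset.mem_union_left _ (Finset.mem_union_left _ hy))
  choose gx hgx using fun l => hi (Finset.mem_union_left _ (Finset.mem_union_right _
    (Finset.mem_image_of_mem (fun l => (x l : A)) (Finset.mem_univ l))))
  choose! gc hgc using fun q (hq : q ∈ P.support) => hi (Finset.mem_union_right _
    (Finset.mem_image_of_mem P.coeff hq))
  obtain ⟨j, ψ, hψ, hψ0⟩ := hker i (∑ q ∈ P.support, gc q * ∏ l, gx l ^ q l - g) (by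
    rw [map_sub, map_sum, sub_eq_zero, show φ i g = eval _ P from hgz, eval_eq']
    refine Finset.sum_congr rfl fun q hq => ?_
    simp only [map_mul, map_prod, map_pow, hgc q hq, hgx])
  have hgj : ψ g ∈ (m.comap (φ j).toRingHom) ^ (n + 1) := by
    have h1 : ((m.comap (φ i).toRingHom) ^ (n + 1)).map ψ ≤ (m.comap (φ j).toRingHom) ^ (n + 1) := by
      rw [Ideal.map_pow]
      refine Ideal.pow_right_mono (Ideal.map_le_iff_le_comap.2 fun z hz => ?_) _
      change φ j (ψ z) ∈ m
      rw [hψ]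
      exact hz
    exact h1 (Ideal.mem_map_of_mem _ hg)
  rw [map_sub, sub_eq_zero, map_sum] at hψ0
  simp only [map_mul, map_prod, map_pow] at hψ0
  have hkm : RingHom.ker (Ideal.Quotient.mkₐ F m).toRingHom = m := Ideal.mk_ker
  have hmap := map_mem_pow (φ j) (Ideal.Quotient.mkₐ F m) (Ideal.Quotient.mkₐ F (m ^ 2))
    (Ideal.Quotient.factorₐ F (Ideal.pow_le_self two_ne_zero)) (fun _ => rfl)
    (fun l => (x l : A)) π hsurj hk hX hfac hn hP (fun q => ψ (gc q))
    (fun q hq => (hψ _).trans (hgc q hq)) (fun l => ψ (gx l)) (fun l => (hψ _).trans (hgx l)) (ψ g) (by rw [hkm]; exact hgj) hψ0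
  rw [mem_pow_idealOfVars_iff'] at hmap
  rw [← Ideal.Quotient.eq_zero_iff_mem, ← coeff_map]
  by_cases hdd : Finsupp.degree dd < n + 1
  · exact hmap dd hdd
  · rw [coeff_map, hP.coeff_eq_zero (d := dd) (by omega), map_zero]

end GrothLib.ColimRegular
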