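import Groth.Agent.Lib.ColimRegular.Criterion
import Groth.Prelude.Def_Found
import Mathlib.RingTheory.Smooth.Flat
import Mathlib.RingTheory.Flat.EquationalCriterion
import Mathlib.Algebra.Colimit.DirectLimit
import Mathlib.RingTheory.RegularLocalRing.Defs
import Mathlib.FieldTheory.Perfect
import Mathlib.RingTheory.TensorProduct.Finite

/-! Colimits of smooth algebras with Noetherian fibres are regular. -/

set_option autoImplicit false

universe u

open scoped TensorProduct

namespace GrothLib.ColimRegular

theorem exists_perfect_subfield (L : Type u) [Field L] : ∃ F : Subfield L, PerfectField F := by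
  obtain h0 | ⟨p, hp, hpL⟩ := CharP.exists' L
  · exact ⟨⊥, inferInstance⟩
  · haveI := hp
    refine ⟨(ZMod.castHom (dvd_refl p) L).fieldRange, ?_⟩
    haveI : Finite (ZMod.castHom (dvd_refl p) L).fieldRange := Finite.Set.finite_range _
    infer_instance

/-- A Noetherian algebra over a field which is a union of formally smooth algebras is regular. -/
theorem isRegularRing_of_union {L A : Type u} [Field L] [CommRing A] [IsNoetherianRing A] [Algebra L A]
    {ι : Type u} [Nonempty ι] (G : ι → Type u) [∀ i, CommRing (G i)] [∀ i, Algebra L (G i)]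
    [∀ i, Algebra.FormallySmooth L (G i)] (φ : ∀ i, G i →ₐ[L] A)
    (hcov : ∀ i (s : Finset A), ∃ j, ∃ ψ : G i →+* G j,
      (∀ x, φ j (ψ x) = φ i x) ∧ (↑s : Set A) ⊆ Set.range (φ j))
    (hker : ∀ i (e : G i), φ i e = 0 → ∃ j, ∃ ψ : G i →+* G j, (∀ x, φ j (ψ x) = φ i x) ∧ ψ e = 0) :
    IsRegularRing A := by
  classical
  obtain ⟨F, hF⟩ := exists_perfect_subfield L
  haveI : Algebra.FormallySmooth F L := GrothLib.SepField.formallySmooth_iff_isGeometricallyReduced.2
    GrothLib.SepField.isGeometricallyReduced_of_perfectField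
  haveI : ∀ i, Algebra.FormallySmooth F (G i) := fun i => Algebra.FormallySmooth.comp F L (G i)
  rw [isRegularRing_iff]
  intro q hq
  let φ' : ∀ i, Localization.AtPrime (q.comap (φ i).toRingHom) →ₐ[F] Localization.AtPrime q := fun i =>
    { Localization.localRingHom _ q (φ i).toRingHom rfl with
      commutes' := fun c => by
        change Localization.localRingHom _ q (φ i).toRingHom rfl
          (algebraMap F (Localization.AtPrime (q.comap (φ i).toRingHom)) c) = _
        rw [IsScalarTower.algebraMap_apply F (G i), Localization.localRingHom_to_map,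
          IsScalarTower.algebraMap_apply F A (Localization.AtPrime q)]
        exact congrArg _ ((φ i).commutes (algebraMap F L c)) }
  have hmap : ∀ i g, φ' i (algebraMap (G i) _ g) = algebraMap A _ (φ i g) := fun i g =>
    Localization.localRingHom_to_map _ _ _ rfl g
  refine isRegularLocalRing_of_union (fun i => Localization.AtPrime (q.comap (φ i).toRingHom)) φ'
    (fun s => ?_) fun i e he => ?_
  · choose c hc using fun z : Localization.AtPrime q => IsLocalization.surj q.primeCompl z
    obtain ⟨j, ψ, -, hj⟩ := hcov (Classical.arbitrary ι)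
      (s.image (fun z => (c z).1) ∪ s.image fun z => ((c z).2 : A))
    refine ⟨j, fun z hz => ?_⟩
    obtain ⟨a, ha⟩ := hj (Finset.mem_union_left _ (Finset.mem_image_of_mem (fun z => (c z).1) hz))
    obtain ⟨b, hb⟩ := hj (Finset.mem_union_right _ (Finset.mem_image_of_mem (fun z => ((c z).2 : A)) hz))
    have hb' : b ∈ (q.comap (φ j).toRingHom).primeCompl := fun h => (c z).2.2 (by
      change φ j b ∈ q at h
      rwa [hb] at h)
    refine ⟨IsLocalization.mk' _ a ⟨b, hb'⟩, ?_⟩
    have hu : IsUnit (algebraMap A (Localization.AtPrime q) (φ j b)) := by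
      rw [hb]; exact IsLocalization.map_units _ (c z).2
    refine hu.mul_left_inj.1 ?_
    rw [← hmap, ← map_mul, IsLocalization.mk'_spec, hmap, hmap, ha, hb]
    exact (hc z).symm
  · obtain ⟨g, u, rfl⟩ := IsLocalization.exists_mk'_eq (q.comap (φ i).toRingHom).primeCompl e
    have h1 : algebraMap A (Localization.AtPrime q) (φ i g) = 0 := by
      rw [← hmap, ← IsLocalization.mk'_spec _ g u, map_mul, he, zero_mul]
    obtain ⟨⟨t, ht⟩, htg⟩ := (IsLocalization.map_eq_zero_iff q.primeCompl _ _).1 h1
    obtain ⟨j, ψ₁, hψ₁, hj⟩ := hcov i {t}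
    obtain ⟨t', ht'⟩ := hj (Finset.mem_singleton_self t)
    obtain ⟨k, ψ₂, hψ₂, hk0⟩ := hker j (t' * ψ₁ g) (by rw [map_mul, ht', hψ₁]; exact htg)
    have hcomap : q.comap (φ i).toRingHom = (q.comap (φ k).toRingHom).comap (ψ₂.comp ψ₁) := by
      ext w
      change φ i w ∈ q ↔ φ k (ψ₂ (ψ₁ w)) ∈ q
      rw [hψ₂, hψ₁]
    refine ⟨k, Localization.localRingHom _ _ (ψ₂.comp ψ₁) hcomap, fun w => ?_, ?_⟩
    · have : ((φ' k).toRingHom).comp (Localization.localRingHom _ _ (ψ₂.comp ψ₁) hcomap) =
          (φ' i).toRingHom := IsLocalization.ringHom_ext (q.comap (φ i).toRingHom).primeCompl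
        (RingHom.ext fun g => by
          change φ' k (Localization.localRingHom _ _ (ψ₂.comp ψ₁) hcomap (algebraMap _ _ g)) =
            φ' i (algebraMap _ _ g)
          rw [Localization.localRingHom_to_map, hmap, hmap]
          exact congrArg _ ((hψ₂ _).trans (hψ₁ g)))
      exact RingHom.congr_fun this w
    · rw [Localization.localRingHom_mk', IsLocalization.mk'_eq_zero_iff]
      have ht2 : ψ₂ t' ∈ (q.comap (φ k).toRingHom).primeCompl := fun h => ht (by
        change φ k (ψ₂ t') ∈ q at h
        rwa [hψ₂, ht'] at h)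
      exact ⟨⟨ψ₂ t', ht2⟩, (map_mul ψ₂ _ _).symm.trans hk0⟩

variable {R : Type u} [CommRing R] {ι : Type u} [Preorder ι]
    [IsDirectedOrder ι] [Nonempty ι] (G : ι → Type u) [∀ i, CommRing (G i)] [∀ i, Algebra R (G i)]
    (f : ∀ i j : ι, i ≤ j → (G i →ₐ[R] G j)) [DirectedSystem G (fun i j h => f i j h)]

theorem exists_of_finset (i : ι) (s : Finset (DirectLimit G f)) :
    ∃ j, i ≤ j ∧ (↑s : Set (DirectLimit G f)) ⊆ Set.range (DirectLimit.Algebra.of (R := R) G f j) := by
  classical
  induction s using Finset.induction with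
  | empty => exact ⟨i, le_rfl, by simp⟩
  | insert z s _ ih =>
    obtain ⟨j, hij, hj⟩ := ih
    induction z using DirectLimit.induction with
    | _ k x =>
      obtain ⟨l, hjl, hkl⟩ := exists_ge_ge j k
      refine ⟨l, hij.trans hjl, ?_⟩
      rw [Finset.coe_insert]
      refine Set.insert_subset ⟨f k l hkl x, DirectLimit.Algebra.of_f hkl x⟩ fun w hw => ?_
      obtain ⟨y, rfl⟩ := hj hw
      exact ⟨f j l hjl y, DirectLimit.Algebra.of_f hjl y⟩

/-- The colimit of flat algebras is flat. -/
theorem flat_directLimit (hflat : ∀ i, Module.Flat R (G i)) : Module.Flat R (DirectLimit G f) := by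
  classical
  rw [Module.Flat.iff_forall_isTrivialRelation]
  intro l r x hrx
  obtain ⟨i, -, hi⟩ := exists_of_finset G f (Classical.arbitrary ι) (Finset.univ.image x)
  choose y hy using fun k => hi (Finset.mem_image_of_mem x (Finset.mem_univ k))
  have h0 : DirectLimit.Algebra.of (R := R) G f i (∑ k, r k • y k) = 0 := by
    rw [map_sum, ← hrx]
    exact Finset.sum_congr rfl fun k _ => by rw [map_smul, hy]
  rw [← map_zero (DirectLimit.Algebra.of (R := R) G f i)] at h0
  obtain ⟨j, hij, hij', he⟩ := Quotient.exact h0
  change f i j hij _ = f i j hij' 0 at he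
  rw [map_zero, map_sum] at he
  simp only [map_smul] at he
  haveI := hflat j
  obtain ⟨n, a, z, hz, ha⟩ := Module.Flat.isTrivialRelation_of_sum_smul_eq_zero he
  refine ⟨n, a, fun m => DirectLimit.Algebra.of (R := R) G f j (z m), fun k => ?_, ha⟩
  have := congrArg (DirectLimit.Algebra.of (R := R) G f j) (hz k)
  rw [DirectLimit.Algebra.of_f, hy, map_sum] at this
  rw [this]
  simp only [map_smul]

/-- The colimit of smooth algebras stays regular after base change to a field, when Noetherian. -/
theorem isRegularRing_baseChange (hs : ∀ i, Algebra.FormallySmooth R (G i)) (L : Type u) [Field L]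
    [Algebra R L] [IsNoetherianRing (L ⊗[R] DirectLimit G f)] : IsRegularRing (L ⊗[R] DirectLimit G f) := by
  classical
  let F : ∀ i j : ι, i ≤ j → (L ⊗[R] G i →ₐ[L] L ⊗[R] G j) := fun i j h =>
    Algebra.TensorProduct.map (AlgHom.id L L) (f i j h)
  haveI : DirectedSystem (fun i => L ⊗[R] G i) (fun i j h => F i j h) :=
    { map_self := fun i x => by
        induction x using TensorProduct.induction_on with
        | zero => exact map_zero _
        | tmul a g => simp only [F, Algebra.TensorProduct.map_tmul, DirectedSystem.map_self (f := fun i j h => ⇑(f i j h))]; rfl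
        | add x y hx hy => rw [map_add, hx, hy]
      map_map := fun k j i hij hjk x => by
        induction x using TensorProduct.induction_on with
        | zero => simp only [map_zero]
        | tmul a g => simp only [F, Algebra.TensorProduct.map_tmul, DirectedSystem.map_map (f := fun i j h => ⇑(f i j h))]; rfl
        | add x y hx hy => simp only [map_add, hx, hy] }
  let φ : ∀ i, L ⊗[R] G i →ₐ[L] L ⊗[R] DirectLimit G f := fun i =>
    Algebra.TensorProduct.map (AlgHom.id L L) (DirectLimit.Algebra.of (R := R) G f i)
  have hF : ∀ i j (h : i ≤ j) x, φ j (F i j h x) = φ i x := fun i j h x => by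
    induction x using TensorProduct.induction_on with
    | zero => simp only [map_zero]
    | tmul a g => simp [φ, F, DirectLimit.Algebra.of_f]
    | add x y hx hy => simp only [map_add, hx, hy]
  refine isRegularRing_of_union (fun i => L ⊗[R] G i) φ (fun i s => ?_) fun i e he => ?_
  · have key : ∃ j, i ≤ j ∧ (↑s : Set _) ⊆ Set.range (φ j) := by
      induction s using Finset.induction with
      | empty => exact ⟨i, le_rfl, by simp⟩
      | insert z s hzs ih =>
        clear hzs
        obtain ⟨j, hij, hj⟩ := ih
        obtain ⟨l, hjl, hl⟩ : ∃ l, j ≤ l ∧ z ∈ Set.range (φ l) := by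
          clear hj hij
          induction z using TensorProduct.induction_on generalizing j with
          | zero => exact ⟨j, le_rfl, 0, map_zero _⟩
          | tmul a b =>
            obtain ⟨l, hjl, hl⟩ := exists_of_finset G f j {b}
            obtain ⟨y, hy⟩ := hl (Finset.mem_singleton_self b)
            exact ⟨l, hjl, a ⊗ₜ y, by simp [φ, hy]⟩
          | add z w hz hw =>
            obtain ⟨l, hjl, y, hy⟩ := hz j
            obtain ⟨m, hlm, y', hy'⟩ := hw l
            exact ⟨m, hjl.trans hlm, F l m hlm y + y', by rw [map_add, hF, hy, hy']⟩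
        refine ⟨l, hij.trans hjl, ?_⟩
        rw [Finset.coe_insert]
        refine Set.insert_subset hl fun w hw => ?_
        obtain ⟨y, rfl⟩ := hj hw
        exact ⟨F j l hjl y, hF _ _ hjl y⟩
    obtain ⟨j, hij, hj⟩ := key
    exact ⟨j, (F i j hij).toRingHom, fun x => hF i j hij x, hj⟩
  · let K := DirectLimit (fun i => L ⊗[R] G i) F
    letI : Algebra R K := ((algebraMap L K).comp (algebraMap R L)).toAlgebra
    let lam : DirectLimit G f →ₐ[R] K := DirectLimit.Algebra.lift G f K
      (fun j => { (DirectLimit.Algebra.of (R := L) (fun i => L ⊗[R] G i) F j).toRingHom.comp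
          (Algebra.TensorProduct.includeRight (R := R) (A := L) (B := G j)).toRingHom with
        commutes' := fun r => by
          change DirectLimit.Algebra.of (R := L) (fun i => L ⊗[R] G i) F j ((1 : L) ⊗ₜ algebraMap R (G j) r) = _
          rw [← Algebra.TensorProduct.tmul_one_eq_one_tmul,
            show (algebraMap R L r) ⊗ₜ[R] (1 : G j) = algebraMap L (L ⊗[R] G j) (algebraMap R L r) from rfl,
            AlgHom.commutes]
          rfl })
      (fun j k h x => by
        change DirectLimit.Algebra.of (R := L) _ F k ((1 : L) ⊗ₜ f j k h x) =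
          DirectLimit.Algebra.of (R := L) _ F j ((1 : L) ⊗ₜ x)
        rw [← DirectLimit.Algebra.of_f (R := L) (f := F) h]
        simp [F])
    let θ : L ⊗[R] DirectLimit G f →ₐ[R] K := Algebra.TensorProduct.productMap
      { algebraMap L K with commutes' := fun _ => rfl } lam
    have hθ : ∀ j z, θ (φ j z) = DirectLimit.Algebra.of (R := L) (fun i => L ⊗[R] G i) F j z := fun j z => by
      induction z using TensorProduct.induction_on with
      | zero => simp only [map_zero]
      | tmul a g =>
        change θ (a ⊗ₜ DirectLimit.Algebra.of (R := R) G f j g) = _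
        rw [Algebra.TensorProduct.productMap_apply_tmul]
        change algebraMap L K a * DirectLimit.Algebra.of (R := L) _ F j ((1 : L) ⊗ₜ g) = _
        rw [← (DirectLimit.Algebra.of (R := L) (fun i => L ⊗[R] G i) F j).commutes a, ← map_mul]
        congr 1
        simp [Algebra.TensorProduct.tmul_mul_tmul]
      | add x y hx hy => simp only [map_add, hx, hy]
    have h0 := hθ i e
    rw [he, map_zero, ← map_zero (DirectLimit.Algebra.of (R := L) (fun i => L ⊗[R] G i) F i)] at h0
    obtain ⟨j, hij, hij', hej⟩ := Quotient.exact h0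
    change F i j hij 0 = F i j hij' e at hej
    exact ⟨j, (F i j hij).toRingHom, fun x => hF i j hij x, by rw [map_zero] at hej; exact hej.symm⟩

/-- A colimit of smooth algebras with Noetherian fibres is regular. -/
theorem isRegularHom_directLimit (hs : ∀ i, Algebra.Smooth R (G i))
    (hN : ∀ (p : Ideal R) [p.IsPrime], IsNoetherianRing (p.Fiber (DirectLimit G f))) :
    CAlg.IsRegularHom R (DirectLimit G f) := by
  refine ⟨flat_directLimit G f fun i => haveI := hs i; inferInstance, fun p _ => ⟨hN p, fun L _ _ hL => ?_⟩⟩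
  haveI := hN p
  letI : Algebra R L := ((algebraMap p.ResidueField L).comp (algebraMap R p.ResidueField)).toAlgebra
  haveI : IsScalarTower R p.ResidueField L := IsScalarTower.of_algebraMap_eq fun _ => rfl
  let e : L ⊗[p.ResidueField] p.Fiber (DirectLimit G f) ≃ₐ[L] L ⊗[R] DirectLimit G f :=
    Algebra.TensorProduct.cancelBaseChange R p.ResidueField L L (DirectLimit G f)
  haveI : IsNoetherianRing (L ⊗[p.ResidueField] p.Fiber (DirectLimit G f)) := by
    haveI : Module.Finite (p.Fiber (DirectLimit G f)) (p.Fiber (DirectLimit G f) ⊗[p.ResidueField] L) :=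
      inferInstance
    haveI := IsNoetherianRing.of_finite (p.Fiber (DirectLimit G f))
      (p.Fiber (DirectLimit G f) ⊗[p.ResidueField] L)
    exact isNoetherianRing_of_ringEquiv _ (Algebra.TensorProduct.comm p.ResidueField _ L).toRingEquiv
  haveI : IsNoetherianRing (L ⊗[R] DirectLimit G f) := isNoetherianRing_of_ringEquiv _ e.toRingEquiv
  haveI := isRegularRing_baseChange G f (fun i => (hs i).formallySmooth) L
  exact IsRegularRing.of_ringEquiv (R := L ⊗[R] DirectLimit G f) e.symm.toRingEquiv

end GrothLib.ColimRegular
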